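import Cfsg.Agent.H776.P4.Stmts
import Cfsg.Agent.LieClassical.HermBasic

/-!
# S5210: the action of `Aut(Q)` on `Q / Z = K × K` (helper994)

`uu e = (b, r)`; `pi h : MulAut (PQ K) →* A2 K`; conjugation by `x` acts as `tau (- x.c) : (b, r) ↦ (b - x.c * r, r)`.
-/

set_option autoImplicit false
set_option linter.unusedSectionVars false

namespace Cfsg.Agent.H994.P4

open Cfsg Cfsg.FusionSystem Cfsg.Agent.H776.P4
open Cfsg.Agent.H756.PU (HypK Ess Inv Com NormAut TIAut AF)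
open Cfsg.Agent.H802 (exists_conjAut mem_autInducedBy_iff)

universe u

variable {K : Type u} [Field K] [StarRing K] {p n : ℕ}

/-- additive automorphisms of `K × K` -/
abbrev A2 (K : Type u) [Field K] := (K × K) ≃ₗ[ℤ] (K × K)

/-- coordinates -/
def uu (x : PG K) : K × K := (x.b, x.r)

theorem c_Q (e : PQ K) : (e : PG K).c = 0 := e.2

theorem uu_mul (e e' : PQ K) : uu ((e * e' : PQ K) : PG K) = uu (e : PG K) + uu (e' : PG K) := by
  have h1 : ((e * e' : PQ K) : PG K) = (e : PG K) * (e' : PG K) := rfl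
  apply Prod.ext
  · show ((e * e' : PQ K) : PG K).b = (e : PG K).b + (e' : PG K).b
    rw [h1, PG.mul_b, c_Q, mul_zero, add_zero]
  · show ((e * e' : PQ K) : PG K).r = (e : PG K).r + (e' : PG K).r
    rw [h1, PG.mul_r]

theorem uu_inv (e : PQ K) : uu ((e⁻¹ : PQ K) : PG K) = - uu (e : PG K) := by
  have h1 := uu_mul e⁻¹ e
  rw [inv_mul_cancel] at h1
  exact eq_neg_of_add_eq_zero_left h1.symm

/-- the element of `Q` with coordinates `(b, r)` and `a = 0` -/
def eQ (u : K × K) : PQ K :=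
  ⟨{ r := u.2, a := 0, b := u.1, c := 0, ha := star_zero K, hc := star_zero K }, rfl⟩

theorem uu_eQ (u : K × K) : uu (eQ u : PG K) = u := rfl

/-- the element `a` of `Z` -/
def eZ (a : K) (ha : star a = a) : PQ K :=
  ⟨{ r := 0, a := a, b := 0, c := 0, ha := ha, hc := star_zero K }, rfl⟩

section field

theorem exists_tr (h : HypK K p n) {c : K} (hc : star c = c) : ∃ x : K, x + star x = c := by
  have := h.fin
  have := Fintype.ofFinite K
  have hF : Fintype.card K = (p ^ n) ^ 2 := by rw [← Nat.card_eq_fintype_card, h.card]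
  rw [h.star_eq] at hc
  obtain ⟨x, hx⟩ := Cfsg.Agent.LieClassical.HermBasic.exists_trace_eq hF hc
  exact ⟨x, by rw [h.star_eq]; exact hx⟩

/-- nondegeneracy of the trace form -/
theorem tr_nondeg (h : HypK K p n) {x : K} (hx : ∀ b : K, x * star b + star x * b = 0) : x = 0 := by
  by_contra h0
  obtain ⟨y, hy⟩ := exists_tr h (c := (1 : K)) (star_one K)
  have h1 := hx (star (x⁻¹ * y))
  rw [star_star, ← mul_assoc, mul_inv_cancel₀ h0, one_mul, star_mul', ← mul_assoc] at h1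
  have h2 : star x * star x⁻¹ = 1 := by rw [← star_mul', mul_inv_cancel₀ h0, star_one]
  rw [h2, one_mul, hy] at h1
  exact one_ne_zero h1

end field

theorem mul_a' (e e' : PQ K) : ((e * e' : PQ K) : PG K).a = (e : PG K).a + (e' : PG K).a +
    (e : PG K).r * star (e' : PG K).b + star (e : PG K).r * (e' : PG K).b := by
  have h1 : ((e * e' : PQ K) : PG K) = (e : PG K) * (e' : PG K) := rfl
  rw [h1, PG.mul_a, c_Q, mul_zero, add_zero]

theorem mul_b' (e e' : PQ K) : ((e * e' : PQ K) : PG K).b = (e : PG K).b + (e' : PG K).b :=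
  congrArg Prod.fst (uu_mul e e')

theorem mul_r' (e e' : PQ K) : ((e * e' : PQ K) : PG K).r = (e : PG K).r + (e' : PG K).r := rfl

theorem ext_Q {e e' : PQ K} (hu : uu (e : PG K) = uu (e' : PG K)) (ha : (e : PG K).a = (e' : PG K).a) : e = e' := by
  apply Subtype.ext
  apply PG.ext
  · exact congrArg Prod.snd hu
  · exact ha
  · exact congrArg Prod.fst hu
  · rw [c_Q, c_Q]

/-- the commutator -/
theorem comm_eq (e f : PQ K) : uu ((e * f * e⁻¹ * f⁻¹ : PQ K) : PG K) = 0 ∧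
    ((e * f * e⁻¹ * f⁻¹ : PQ K) : PG K).a = (e : PG K).r * star (f : PG K).b + star (e : PG K).r * (f : PG K).b -
      ((f : PG K).r * star (e : PG K).b + star (f : PG K).r * (e : PG K).b) := by
  obtain ⟨z, hz⟩ : ∃ z, z = e * f * e⁻¹ * f⁻¹ := ⟨_, rfl⟩
  have hz0 : uu (z : PG K) = 0 := by
    rw [hz, uu_mul, uu_mul, uu_mul, uu_inv, uu_inv]
    abel
  have hz1 : (z : PG K).b = 0 := congrArg Prod.fst hz0
  have hz2 : (z : PG K).r = 0 := congrArg Prod.snd hz0
  have hxy : e * f = z * (f * e) := by rw [hz]; group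
  have ea := congrArg (fun w : PQ K => (w : PG K).a) hxy
  simp only [mul_a', mul_b', hz2, zero_mul, star_zero] at ea
  rw [← hz]
  exact ⟨hz0, by linear_combination -ea⟩

/-- `Z` is the centre of `Q` -/
theorem central_iff (h : HypK K p n) (e : PQ K) : (∀ y : PQ K, e * y = y * e) ↔ uu (e : PG K) = 0 := by
  constructor
  · intro hc
    have h1 : ∀ u : K × K, (e : PG K).r * star u.1 + star (e : PG K).r * u.1 -
        (u.2 * star (e : PG K).b + star u.2 * (e : PG K).b) = 0 := by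
      intro u
      have h2 := (comm_eq e (eQ u)).2
      rw [hc (eQ u), mul_inv_cancel_right, mul_inv_cancel] at h2
      exact h2.symm
    have h2 : (e : PG K).r = 0 := tr_nondeg h fun b => by
      have := h1 (b, 0)
      simpa using this
    have h3 : (e : PG K).b = 0 := tr_nondeg h fun b => by
      have h4 := h1 (0, b)
      rw [h2] at h4
      simp only [star_zero, mul_zero, add_zero, zero_sub, neg_eq_zero] at h4
      rw [mul_comm, mul_comm (star _), add_comm]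
      linear_combination h4
    exact Prod.ext h3 h2
  · intro h0 y
    have h1 : (e : PG K).b = 0 := congrArg Prod.fst h0
    have h2 : (e : PG K).r = 0 := congrArg Prod.snd h0
    apply ext_Q
    · rw [uu_mul, uu_mul, add_comm]
    · rw [mul_a', mul_a', h1, h2, star_zero]
      ring

section Pi

variable (h : HypK K p n)
include h

/-- the induced map -/
def fn (_ : HypK K p n) (γ : MulAut (PQ K)) (u : K × K) : K × K := uu ((γ (eQ u) : PQ K) : PG K)

theorem fn_uu (γ : MulAut (PQ K)) (e : PQ K) : fn h γ (uu (e : PG K)) = uu ((γ e : PQ K) : PG K) := by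
  have h1 : uu (((eQ (uu (e : PG K)))⁻¹ * e : PQ K) : PG K) = 0 := by
    rw [uu_mul, uu_inv, uu_eQ, neg_add_cancel]
  rw [← central_iff h] at h1
  have h2 : uu ((γ ((eQ (uu (e : PG K)))⁻¹ * e) : PQ K) : PG K) = 0 := by
    rw [← central_iff h]
    intro y
    obtain ⟨z, rfl⟩ := γ.surjective y
    rw [← map_mul, h1, map_mul]
  rw [map_mul, map_inv, uu_mul, uu_inv, neg_add_eq_zero] at h2
  exact h2

theorem fn_mul (γ γ' : MulAut (PQ K)) (u : K × K) : fn h (γ * γ') u = fn h γ (fn h γ' u) := by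
  show _ = fn h γ (uu ((γ' (eQ u) : PQ K) : PG K))
  rw [fn_uu]
  rfl

theorem fn_one (u : K × K) : fn h 1 u = u := rfl

theorem fn_add (γ : MulAut (PQ K)) (u v : K × K) : fn h γ (u + v) = fn h γ u + fn h γ v := by
  have h1 : u + v = uu ((eQ u * eQ v : PQ K) : PG K) := by rw [uu_mul, uu_eQ, uu_eQ]
  rw [h1, fn_uu, map_mul, uu_mul]
  rfl

/-- **The action on `Q / Z`.** -/
def pi : MulAut (PQ K) →* A2 K where
  toFun γ := AddEquiv.toIntLinearEquiv
    { toFun := fn h γ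
      invFun := fn h γ⁻¹
      left_inv := fun u => by rw [← fn_mul, inv_mul_cancel, fn_one]
      right_inv := fun u => by rw [← fn_mul, mul_inv_cancel, fn_one]
      map_add' := fn_add h γ }
  map_one' := LinearEquiv.ext fun u => fn_one h u
  map_mul' γ γ' := LinearEquiv.ext fun u => fn_mul h γ γ' u

theorem pi_uu (γ : MulAut (PQ K)) (e : PQ K) : pi h γ (uu (e : PG K)) = uu ((γ e : PQ K) : PG K) := fn_uu h γ e

theorem pi_ext {γ : MulAut (PQ K)} {g : A2 K} (hg : ∀ e : PQ K, g (uu (e : PG K)) = uu ((γ e : PQ K) : PG K)) :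
    pi h γ = g := by
  apply LinearEquiv.ext
  intro u
  have := hg (eQ u)
  rw [uu_eQ] at this
  rw [this]
  rfl

omit h in
/-- the transvections -/
def tau (c : K) : A2 K := AddEquiv.toIntLinearEquiv
  { toFun := fun u => (u.1 + c * u.2, u.2)
    invFun := fun u => (u.1 - c * u.2, u.2)
    left_inv := fun u => by simp
    right_inv := fun u => by simp
    map_add' := fun u v => by
      apply Prod.ext
      · show u.1 + v.1 + c * (u.2 + v.2) = u.1 + c * u.2 + (v.1 + c * v.2)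
        ring
      · rfl }

omit h in
theorem tau_apply (c : K) (u : K × K) : tau c u = (u.1 + c * u.2, u.2) := rfl

omit h in
theorem tau_add (c d : K) : tau (c + d) = tau c * tau d := by
  apply LinearEquiv.ext
  intro u
  show tau (c + d) u = tau c (tau d u)
  simp only [tau_apply]
  apply Prod.ext
  · show u.1 + (c + d) * u.2 = u.1 + d * u.2 + c * u.2
    ring
  · rfl

omit h in
theorem tau_zero : tau (0 : K) = 1 := by
  apply LinearEquiv.ext
  intro u
  rw [tau_apply, zero_mul, add_zero]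
  rfl

omit h in
theorem tau_injective : Function.Injective (tau : K → A2 K) := by
  intro c d hcd
  have h1 := congrArg (fun g : A2 K => (g (0, 1)).1) hcd
  simp only [tau_apply, zero_add, mul_one] at h1
  exact h1

theorem pi_conj {γ : MulAut (PQ K)} {x : PG K} (hx : ∀ e : PQ K, ((γ e : PQ K) : PG K) = x * e * x⁻¹) :
    pi h γ = tau (- x.c) := by
  apply pi_ext
  intro e
  rw [hx, tau_apply]
  apply Prod.ext
  · show (uu (e : PG K)).1 + - x.c * (uu (e : PG K)).2 = (x * e * x⁻¹).b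
    simp only [uu, PG.mul_b, PG.inv_b, PG.mul_r, PG.inv_c, c_Q, mul_zero, add_zero]
    ring
  · show (uu (e : PG K)).2 = (x * e * x⁻¹).r
    simp only [uu, PG.mul_r, PG.inv_r]
    ring

theorem pi_tor {δ : MulAut (PQ K)} {d : MulAut (PG K)} {s l : K} {τ : K ≃+* K} (hd : IsTorP d s l τ) (hδ : IsRP d δ)
    (u : K × K) : pi h δ u = (s * l * τ u.1, s * τ u.2) := by
  have h1 := pi_uu h δ (eQ u)
  rw [uu_eQ] at h1
  rw [h1, hδ]
  exact Prod.ext (hd.b _) (hd.r _)

omit h in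
/-- conjugation on `Q` -/
theorem exists_conj (x : PG K) : ∃ γ : MulAut (PQ K), ∀ e : PQ K, ((γ e : PQ K) : PG K) = x * e * x⁻¹ := by
  apply exists_conjAut
  rw [Subgroup.mem_normalizer_iff]
  intro g
  show g.c = 0 ↔ (x * g * x⁻¹).c = 0
  rw [PG.mul_c, PG.mul_c, PG.inv_c]
  constructor
  · intro h1; rw [h1]; ring
  · intro h1; linear_combination h1

omit h in
theorem exists_conj_aut (x : PG K) : ∃ γ ∈ autInducedBy ⊤ (PQ K), ∀ e : PQ K, ((γ e : PQ K) : PG K) = x * e * x⁻¹ := by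
  obtain ⟨γ, hγ⟩ := exists_conj x
  exact ⟨γ, (mem_autInducedBy_iff _ _ _).2 ⟨x, Subgroup.mem_top x, hγ⟩, hγ⟩

omit h in
/-- an element with given `c` -/
theorem exists_c {c : K} (hc : star c = c) : ∃ x : PG K, x.c = c :=
  ⟨{ r := 0, a := 0, b := 0, c := c, ha := star_zero K, hc := hc }, rfl⟩

omit h in
/-- the group of the transvections `tau c`, `c` in the fixed field -/
def TG (K : Type u) [Field K] [StarRing K] : Subgroup (A2 K) where
  carrier := {g | ∃ c : K, star c = c ∧ g = tau c}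
  one_mem' := ⟨0, star_zero K, tau_zero.symm⟩
  mul_mem' := by
    rintro _ _ ⟨c, hc, rfl⟩ ⟨d, hd, rfl⟩
    exact ⟨c + d, by rw [star_add, hc, hd], (tau_add c d).symm⟩
  inv_mem' := by
    rintro _ ⟨c, hc, rfl⟩
    refine ⟨-c, by rw [star_neg, hc], ?_⟩
    rw [inv_eq_iff_mul_eq_one, ← tau_add, add_neg_cancel, tau_zero]

theorem pi_mem_TG {γ : MulAut (PQ K)} (hγ : γ ∈ autInducedBy ⊤ (PQ K)) : pi h γ ∈ TG K := by
  obtain ⟨x, -, hx⟩ := (mem_autInducedBy_iff _ _ _).1 hγ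
  exact ⟨- x.c, by rw [star_neg, x.hc], pi_conj h hx⟩

theorem exists_of_mem_TG {g : A2 K} (hg : g ∈ TG K) : ∃ γ ∈ autInducedBy ⊤ (PQ K), pi h γ = g := by
  obtain ⟨c, hc, rfl⟩ := hg
  obtain ⟨x, hx⟩ := exists_c (c := - c) (by rw [star_neg, hc])
  obtain ⟨γ, hγ, hxγ⟩ := exists_conj_aut x
  refine ⟨γ, hγ, ?_⟩
  rw [pi_conj h hxγ, hx, neg_neg]

/-- elements of `Aut_S(Q)` acting trivially on `Q/Z` are inner -/
theorem mem_inn {γ : MulAut (PQ K)} (hγ : γ ∈ autInducedBy ⊤ (PQ K)) (h1 : pi h γ = 1) : γ ∈ Inn (PQ K) := by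
  obtain ⟨x, -, hx⟩ := (mem_autInducedBy_iff _ _ _).1 hγ
  rw [pi_conj h hx, ← tau_zero] at h1
  have h2 := tau_injective h1
  refine ⟨⟨x, neg_eq_zero.1 h2⟩, ?_⟩
  ext1 e
  exact Subtype.ext (hx e).symm

theorem pi_inn {γ : MulAut (PQ K)} (hγ : γ ∈ Inn (PQ K)) : pi h γ = 1 := by
  obtain ⟨x, rfl⟩ := hγ
  rw [pi_conj h (x := (x : PG K)) (fun e => rfl), c_Q, neg_zero, tau_zero]

/-- elements of the kernel fix `Z` -/
theorem ker_fix {γ : MulAut (PQ K)} (hγ : ∀ e : PQ K, uu ((γ e : PQ K) : PG K) = uu (e : PG K)) {z : PQ K}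
    (hz : uu (z : PG K) = 0) : γ z = z := by
  obtain ⟨x, hx⟩ := exists_tr h (c := (z : PG K).a) (z : PG K).ha
  -- `z = [(0, 1), (star x, 0)]`
  have h1 : z = eQ (0, 1) * eQ (star x, 0) * (eQ (0, 1))⁻¹ * (eQ (star x, 0))⁻¹ := by
    obtain ⟨k0, ka⟩ := comm_eq (eQ ((0 : K), (1 : K))) (eQ (star x, (0 : K)))
    refine ext_Q (by rw [hz, k0]) ?_
    rw [ka]
    show (z : PG K).a = 1 * star (star x) + star 1 * star x - (0 * star 0 + star 0 * 0)
    rw [star_star, star_one, ← hx]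
    ring
  have h2 : γ z = γ (eQ (0, 1)) * γ (eQ (star x, 0)) * (γ (eQ (0, 1)))⁻¹ * (γ (eQ (star x, 0)))⁻¹ := by
    rw [h1, map_mul, map_mul, map_mul, map_inv, map_inv]
  obtain ⟨k0, ka⟩ := comm_eq (eQ ((0 : K), (1 : K))) (eQ (star x, (0 : K)))
  obtain ⟨l0, la⟩ := comm_eq (γ (eQ ((0 : K), (1 : K)))) (γ (eQ (star x, (0 : K))))
  rw [h2, h1]
  refine ext_Q (by rw [k0, l0]) ?_
  have g1 : ∀ e : PQ K, ((γ e : PQ K) : PG K).b = (e : PG K).b := fun e => congrArg Prod.fst (hγ e)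
  have g2 : ∀ e : PQ K, ((γ e : PQ K) : PG K).r = (e : PG K).r := fun e => congrArg Prod.snd (hγ e)
  rw [ka, la, g1, g1, g2, g2]

theorem exp_Z {z : PQ K} (hz : uu (z : PG K) = 0) : z ^ p = 1 := by
  have := h.char
  have hz1 : (z : PG K).b = 0 := congrArg Prod.fst hz
  have hz2 : (z : PG K).r = 0 := congrArg Prod.snd hz
  have key : ∀ k : ℕ, uu ((z ^ k : PQ K) : PG K) = 0 ∧ ((z ^ k : PQ K) : PG K).a = k * (z : PG K).a := by
    intro k
    induction k with
    | zero => exact ⟨by rw [pow_zero]; rfl, by rw [pow_zero, Nat.cast_zero, zero_mul]; rfl⟩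
    | succ k ih =>
      obtain ⟨i0, ia⟩ := ih
      refine ⟨by rw [pow_succ, uu_mul, i0, hz, add_zero], ?_⟩
      rw [pow_succ, mul_a', ia, hz1, star_zero, Nat.cast_succ]
      ring
  obtain ⟨i0, ia⟩ := key p
  rw [CharP.cast_eq_zero, zero_mul] at ia
  exact ext_Q i0 ia

/-- elements of the kernel have order dividing `p` -/
theorem ker_pow {γ : MulAut (PQ K)} (hγ : pi h γ = 1) : γ ^ p = 1 := by
  have huu : ∀ e : PQ K, uu ((γ e : PQ K) : PG K) = uu (e : PG K) := by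
    intro e
    rw [← pi_uu h, hγ]
    rfl
  ext1 e
  obtain ⟨d, hd⟩ : ∃ d, d = e⁻¹ * γ e := ⟨_, rfl⟩
  have hd0 : uu (d : PG K) = 0 := by rw [hd, uu_mul, uu_inv, huu, neg_add_cancel]
  have key : ∀ k : ℕ, (γ ^ k) e = e * d ^ k := by
    intro k
    induction k with
    | zero => rw [pow_zero, pow_zero, mul_one]; rfl
    | succ k ih =>
      rw [pow_succ', MulAut.mul_apply, ih, map_mul, map_pow, ker_fix h huu hd0, pow_succ', ← mul_assoc]
      congr 1
      rw [hd]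
      group
  rw [key, exp_Z h hd0, mul_one]
  rfl

end Pi

section Gamma

variable (h : HypK K p n) {Γ : Subgroup (MulAut (PQ K))} {D : Subgroup (MulAut (PG K))} (hp : ParP p (PQ K) Γ D)
include h

theorem finite_PG : Finite (PG K) := by
  have := h.fin
  refine Finite.of_injective (fun x : PG K => (x.r, x.a, x.b, x.c)) ?_
  intro x y hxy
  simp only [Prod.mk.injEq] at hxy
  obtain ⟨h1, h4, h5, h6⟩ := hxy
  exact PG.ext h1 h4 h5 h6

theorem finite_aut : Finite (MulAut (PQ K)) := by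
  have := finite_PG h
  exact Finite.of_injective (fun e : MulAut (PQ K) => (e : PQ K → PQ K)) DFunLike.coe_injective

theorem finite_A : Finite (A2 K) := by
  have := h.fin
  exact Finite.of_injective (fun g : A2 K => (g : K × K → K × K)) DFunLike.coe_injective

include hp

/-- the kernel lies in `Aut_S(Q)` -/
theorem ker_le {γ : MulAut (PQ K)} (hγ : γ ∈ Γ) (h1 : pi h γ = 1) : γ ∈ autInducedBy ⊤ (PQ K) := by
  have hP : IsPGroup p ↥(Γ ⊓ (pi h).ker) := by
    rintro ⟨x, hx, hx1⟩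
    exact ⟨1, Subtype.ext (by rw [pow_one]; exact ker_pow h hx1)⟩
  obtain ⟨g, hg, hs⟩ := hp.syl _ inf_le_left hP
  have h2 : g⁻¹ * γ * g ∈ Γ ⊓ (pi h).ker := by
    refine Subgroup.mem_inf.2 ⟨mul_mem (mul_mem (inv_mem hg) hγ) hg, ?_⟩
    show pi h (g⁻¹ * γ * g) = 1
    rw [map_mul, map_mul, map_inv, h1, mul_one, inv_mul_cancel]
  have h3 := hs _ h2
  have h4 : g * (g⁻¹ * γ * g) * g⁻¹ = γ := by group
  rwa [h4] at h3

theorem mem_aut_iff {γ : MulAut (PQ K)} (hγ : γ ∈ Γ) : pi h γ ∈ TG K ↔ γ ∈ autInducedBy ⊤ (PQ K) := by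
  constructor
  · intro h1
    obtain ⟨x, hx, hxγ⟩ := exists_of_mem_TG h h1
    have h2 : x⁻¹ * γ ∈ autInducedBy ⊤ (PQ K) := by
      apply ker_le h hp (mul_mem (inv_mem (hp.indu hx)) hγ)
      rw [map_mul, map_inv, hxγ, inv_mul_cancel]
    have h3 := mul_mem hx h2
    rwa [mul_inv_cancel_left] at h3
  · intro h1
    exact pi_mem_TG h h1

theorem TG_le : TG K ≤ Γ.map (pi h) := by
  intro g hg
  obtain ⟨x, hx, rfl⟩ := exists_of_mem_TG h hg
  exact ⟨x, hp.indu hx, rfl⟩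

theorem TG_max : ∀ P : Subgroup (A2 K), P ≤ Γ.map (pi h) → IsPGroup p P → TG K ≤ P → P ≤ TG K := by
  have := finite_aut h
  intro P hPG hP hTP
  have hP' : IsPGroup p ↥(Γ ⊓ P.comap (pi h)) := by
    rintro ⟨x, hx, hx1⟩
    obtain ⟨k, hk⟩ := hP ⟨pi h x, hx1⟩
    have hk' : pi h x ^ p ^ k = 1 := congrArg Subtype.val hk
    refine ⟨k + 1, Subtype.ext ?_⟩
    show x ^ p ^ (k + 1) = 1
    rw [pow_succ, pow_mul]
    apply ker_pow h
    rw [map_pow, hk']
  obtain ⟨g, hg, hs⟩ := hp.syl _ inf_le_left hP'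
  have hA : autInducedBy ⊤ (PQ K) ≤ Γ ⊓ P.comap (pi h) := fun x hx =>
    ⟨hp.indu hx, hTP (pi_mem_TG h hx)⟩
  have hcard : Nat.card ↥(Γ ⊓ P.comap (pi h)) ≤ Nat.card ↥(autInducedBy ⊤ (PQ K)) := by
    refine Nat.card_le_card_of_injective (fun x => ⟨g * x.1 * g⁻¹, hs x.1 x.2⟩) ?_
    intro x y hxy
    have h1 : g * x.1 * g⁻¹ = g * y.1 * g⁻¹ := congrArg Subtype.val hxy
    exact Subtype.ext (mul_left_cancel (mul_right_cancel h1))
  have heq := Subgroup.eq_of_le_of_card_ge hA hcard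
  intro y hy
  obtain ⟨x, hx, rfl⟩ := hPG hy
  have h2 : x ∈ Γ ⊓ P.comap (pi h) := ⟨hx, hy⟩
  rw [← heq] at h2
  exact pi_mem_TG h h2

theorem TG_nn : ∃ g ∈ Γ.map (pi h), ∃ t ∈ TG K, g * t * g⁻¹ ∉ TG K := by
  by_contra hno
  push Not at hno
  apply hp.nn
  intro γ hγ x hx
  have h1 := hno (pi h γ) ⟨γ, hγ, rfl⟩ (pi h x) (pi_mem_TG h hx)
  rw [← map_inv, ← map_mul, ← map_mul] at h1
  exact (mem_aut_iff h hp (mul_mem (mul_mem hγ (hp.indu hx)) (inv_mem hγ))).1 h1

theorem TG_ti : ∀ g ∈ Γ.map (pi h), ∀ x ∈ TG K, x ≠ 1 → g * x * g⁻¹ ∈ TG K → ∀ y ∈ TG K, g * y * g⁻¹ ∈ TG K := by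
  rintro _ ⟨γ, hγ, rfl⟩ x hx hx1 hgx y hy
  obtain ⟨x', hx', rfl⟩ := exists_of_mem_TG h hx
  obtain ⟨y', hy', rfl⟩ := exists_of_mem_TG h hy
  rw [← map_inv, ← map_mul, ← map_mul] at hgx ⊢
  have h1 := (mem_aut_iff h hp (mul_mem (mul_mem hγ (hp.indu hx')) (inv_mem hγ))).1 hgx
  have h2 := hp.ti γ hγ x' hx' (fun h3 => hx1 (pi_inn h h3)) h1 y' hy'
  exact pi_mem_TG h h2

end Gamma

end Cfsg.Agent.H994.P4
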