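import Cfsg.Agent.H994.P4.Opp
import Cfsg.Agent.H994.P4.PiQ

/-!
# S5210: the statement `StQ1` for `p = 2` (helper994)

* `eq_top_of_norm` : an additive subgroup `≠ 0` of `K` invariant under the elements of norm 1 is `K`;
* `stQ1_two` : `StQ1` for `p = 2`.
-/

set_option autoImplicit false
set_option linter.unusedSectionVars false

namespace Cfsg.Agent.H994.P4

open Cfsg Cfsg.FusionSystem Cfsg.Agent.H776.P4
open Cfsg.Agent.H756.PU (HypK Ess Inv Com NormAut TIAut AF)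
open Cfsg.Agent.H802 (exists_conjAut mem_autInducedBy_iff)

universe u

variable {K : Type u} [Field K] [StarRing K] {p n : ℕ}

theorem two_le_q (h : HypK K p n) : 2 ≤ p ^ n := by
  have h1 : p ^ 1 ≤ p ^ n := Nat.pow_le_pow_right h.pp.pos h.hn
  have := h.pp.two_le
  rw [pow_one] at h1
  omega

/-- a generator of the group of the elements of norm 1 -/
theorem exists_norm_gen (h : HypK K p n) : ∃ ω : K, ω * star ω = 1 ∧ ω ^ (p ^ n + 1) = 1 ∧
    ∀ m, 0 < m → m < p ^ n + 1 → ω ^ m ≠ 1 := by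
  have := h.fin
  have hq := two_le_q h
  obtain ⟨g, hg⟩ := IsCyclic.exists_ofOrder_eq_natCard (α := Kˣ)
  have ho : orderOf g = (p ^ n) ^ 2 - 1 := by rw [hg, Nat.card_units, h.card]
  have hfac : (p ^ n) ^ 2 - 1 = (p ^ n - 1) * (p ^ n + 1) := by
    obtain ⟨q, hqq⟩ : ∃ q, p ^ n = q + 1 := ⟨p ^ n - 1, by omega⟩
    rw [hqq, Nat.add_sub_cancel]
    have : (q + 1) ^ 2 = q * (q + 1 + 1) + 1 := by ring
    rw [this, Nat.add_sub_cancel]
  have h1 : ((g : K) ^ (p ^ n - 1)) ^ (p ^ n + 1) = 1 := by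
    rw [← pow_mul, ← hfac, ← ho, ← Units.val_pow_eq_pow_val, pow_orderOf_eq_one, Units.val_one]
  refine ⟨(g : K) ^ (p ^ n - 1), ?_, h1, ?_⟩
  · rw [h.star_eq, ← pow_succ']
    exact h1
  · intro m hm0 hm hm1
    rw [← pow_mul, ← Units.val_pow_eq_pow_val] at hm1
    have h2 := orderOf_dvd_of_pow_eq_one (Units.ext hm1)
    rw [ho, hfac] at h2
    have h3 := Nat.le_of_dvd hm0 (Nat.dvd_of_mul_dvd_mul_left (by omega) h2)
    omega

theorem eq_top_of_norm (h : HypK K p n) (B : AddSubgroup K) {b0 : K} (hb0 : b0 ∈ B) (hb : b0 ≠ 0) {ω : K}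
    (hω0 : ω ≠ 0) (hω : ∀ m, 0 < m → m < p ^ n + 1 → ω ^ m ≠ 1) (hB : ∀ b ∈ B, ω * b ∈ B) : ∀ x : K, x ∈ B := by
  classical
  have := h.fin
  have := Fintype.ofFinite K
  have hq := two_le_q h
  let M0 : Subring K :=
    { carrier := {x | ∀ b ∈ B, x * b ∈ B}
      mul_mem' := by
        intro x y hx hy b hb
        rw [mul_assoc]
        exact hx _ (hy _ hb)
      one_mem' := by
        intro b hb
        rwa [one_mul]
      add_mem' := by
        intro x y hx hy b hb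
        rw [add_mul]
        exact add_mem (hx b hb) (hy b hb)
      zero_mem' := by
        intro b hb
        rw [zero_mul]
        exact zero_mem B
      neg_mem' := by
        intro x hx b hb
        rw [neg_mul]
        exact neg_mem (hx b hb) }
  let M : Subfield K :=
    { M0 with
      inv_mem' := by
        intro x hx
        by_cases hx0 : x = 0
        · rw [hx0, inv_zero]
          exact M0.zero_mem
        · have h1 : x⁻¹ = x ^ (Fintype.card K - 2) := by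
            have h2 := FiniteField.pow_card_sub_one_eq_one x hx0
            have h3 : 1 < Fintype.card K := Fintype.one_lt_card
            have h4 : Fintype.card K - 1 = Fintype.card K - 2 + 1 := by omega
            rw [h4, pow_succ] at h2
            exact (eq_inv_of_mul_eq_one_left h2).symm
          rw [h1]
          exact M0.pow_mem hx _ }
  have hMmem : ∀ x, x ∈ M ↔ ∀ b ∈ B, x * b ∈ B := fun x => Iff.rfl
  have hωM : ω ∈ M := hB
  -- cardinalities
  have h1 : p ^ n + 1 ≤ Nat.card M := by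
    have h2 : Nat.card (Fin (p ^ n + 1)) ≤ Nat.card M := by
      refine Nat.card_le_card_of_injective (fun i : Fin (p ^ n + 1) => (⟨ω ^ (i : ℕ), M.pow_mem hωM _⟩ : M)) ?_
      intro i j hij
      have h3 : ω ^ (i : ℕ) = ω ^ (j : ℕ) := congrArg Subtype.val hij
      by_contra hne
      rcases lt_or_gt_of_ne (fun hh => hne (Fin.ext hh)) with hlt | hlt
      · have h4 : ω ^ (i : ℕ) * 1 = ω ^ (i : ℕ) * ω ^ ((j : ℕ) - i) := by
          rw [mul_one, ← pow_add, Nat.add_sub_cancel' hlt.le]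
          exact h3
        exact hω _ (by omega) (by omega) (mul_left_cancel₀ (pow_ne_zero _ hω0) h4).symm
      · have h4 : ω ^ (j : ℕ) * 1 = ω ^ (j : ℕ) * ω ^ ((i : ℕ) - j) := by
          rw [mul_one, ← pow_add, Nat.add_sub_cancel' hlt.le]
          exact h3.symm
        exact hω _ (by omega) (by omega) (mul_left_cancel₀ (pow_ne_zero _ hω0) h4).symm
    rwa [Nat.card_fin] at h2
  have h2 : Nat.card K = Nat.card M ^ Module.finrank M K := Module.natCard_eq_pow_finrank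
  have h3 : 0 < Module.finrank M K := Module.finrank_pos
  have h4 : Module.finrank M K = 1 := by
    by_contra hne
    have h5 : (p ^ n + 1) ^ 2 ≤ Nat.card M ^ Module.finrank M K :=
      (Nat.pow_le_pow_left h1 2).trans (Nat.pow_le_pow_right (by omega) (by omega))
    rw [← h2, h.card] at h5
    have h6 := (Nat.pow_le_pow_iff_left (by norm_num : (2 : ℕ) ≠ 0)).1 h5
    omega
  rw [h4, pow_one] at h2
  intro x
  have hx : ∀ y : K, y ∈ M := by
    intro y
    have h5 : (M : Set K) = Set.univ := by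
      apply Set.eq_of_subset_of_ncard_le (Set.subset_univ _)
      rw [Set.ncard_univ, h2]
      exact le_of_eq rfl
    have : y ∈ (M : Set K) := by rw [h5]; exact Set.mem_univ y
    exact this
  have h5 := (hMmem _).1 (hx (x * b0⁻¹)) b0 hb0
  rwa [mul_assoc, inv_mul_cancel₀ hb, mul_one] at h5

/-! ### the restriction of `D` -/

section res

/-- the restriction to an invariant subgroup -/
def res (D : Subgroup (MulAut (PG K))) (Q : Subgroup (PG K)) (hD : ∀ d ∈ D, ∀ x : PG K, x ∈ Q → d x ∈ Q) :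
    ↥D →* MulAut Q where
  toFun d :=
    { toFun := fun e => ⟨d.1 e, hD _ d.2 _ e.2⟩
      invFun := fun e => ⟨(d⁻¹).1 e, hD _ (d⁻¹).2 _ e.2⟩
      left_inv := fun e => Subtype.ext (by
        show (d.1)⁻¹ (d.1 e) = e
        exact MulEquiv.symm_apply_apply _ _)
      right_inv := fun e => Subtype.ext (by
        show d.1 ((d.1)⁻¹ e) = e
        exact MulEquiv.apply_symm_apply _ _)
      map_mul' := fun x y => Subtype.ext (map_mul d.1 _ _) }
  map_one' := by
    ext1 e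
    rfl
  map_mul' d d' := by
    ext1 e
    rfl

theorem isRP_res {D : Subgroup (MulAut (PG K))} {Q : Subgroup (PG K)} (hD : ∀ d ∈ D, ∀ x : PG K, x ∈ Q → d x ∈ Q) (d : ↥D) :
    IsRP d.1 (res D Q hD d) := fun _ => rfl

theorem isRP_unique {α : MulAut (PG K)} {Q : Subgroup (PG K)} {γ δ : MulAut Q} (h1 : IsRP α γ) (h2 : IsRP α δ) : γ = δ := by
  ext1 e
  exact Subtype.ext ((h1 e).trans (h2 e).symm)

end res

theorem card_TG (h : HypK K p n) : Nat.card (TG K) = p ^ n := by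
  have := h.fin
  have := Fintype.ofFinite K
  have hF : Fintype.card K = (p ^ n) ^ 2 := by rw [← Nat.card_eq_fintype_card, h.card]
  rw [← Cfsg.Agent.LieClassical.HermBasic.card_fixed hF]
  refine (Nat.card_congr (Equiv.ofBijective (fun x : {x : K // x ^ (p ^ n) = x} =>
    (⟨tau x.1, x.1, by rw [h.star_eq]; exact x.2, rfl⟩ : ↥(TG K))) ⟨?_, ?_⟩)).symm
  · intro x y hxy
    exact Subtype.ext (tau_injective (congrArg Subtype.val hxy))
  · rintro ⟨_, c, hc, rfl⟩
    exact ⟨⟨c, by rw [← h.star_eq]; exact hc⟩, rfl⟩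

theorem exp_TG (h : HypK K p n) : ∀ x ∈ TG K, x ^ p = 1 := by
  have := h.char
  rintro _ ⟨c, -, rfl⟩
  have key : ∀ k : ℕ, tau c ^ k = tau ((k : K) * c) := by
    intro k
    induction k with
    | zero => rw [pow_zero, Nat.cast_zero, zero_mul, tau_zero]
    | succ k ih => rw [pow_succ, ih, ← tau_add, Nat.cast_succ, add_mul, one_mul]
  rw [key, CharP.cast_eq_zero, zero_mul, tau_zero]

theorem comm_TG : ∀ x ∈ TG K, ∀ y ∈ TG K, x * y = y * x := by
  rintro _ ⟨c, -, rfl⟩ _ ⟨d, -, rfl⟩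
  rw [← tau_add, ← tau_add, add_comm]

/-- the automorphisms of `Q` preserve the centre -/
theorem aut_Z (h : HypK K p n) (γ : MulAut (PQ K)) {z : PQ K} (hz : uu (z : PG K) = 0) : uu ((γ z : PQ K) : PG K) = 0 := by
  rw [← central_iff h] at hz ⊢
  intro y
  obtain ⟨w, rfl⟩ := γ.surjective y
  rw [← map_mul, hz, map_mul]

/-- **`StQ1` for `p = 2`.** -/
theorem stQ1_two (hRk : StRk.{u}) (hG : StGrp.{u}) {K : Type u} [Field K] [StarRing K] {p n : ℕ} (h : HypK K p n)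
    (hp2 : p = 2) (hq : 3 < p ^ n) (Γ : Subgroup (MulAut (PQ K))) (D : Subgroup (MulAut (PG K))) (hp : ParP p (PQ K) Γ D)
    (hT : HasTorP D (fun t => t ^ 2) (fun t => (t * star t)⁻¹)) :
    ∃ Rm : Subgroup (MulAut (PQ K)), Rm ≤ Γ ∧ Inn (PQ K) ≤ Rm ∧
      (∀ d ∈ D, ∀ δ : MulAut (PQ K), IsRP d δ → ∀ y ∈ Rm, δ * y * δ⁻¹ ∈ Rm) ∧
      (∀ x ∈ autInducedBy ⊤ (PQ K), x ∉ Inn (PQ K) → ∃ y ∈ Rm,
        (∀ z, z ∈ Rm ↔ (x * y * x) * z * (x * y * x)⁻¹ ∈ autInducedBy ⊤ (PQ K)) ∧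
        (∀ z, z ∈ autInducedBy ⊤ (PQ K) ↔ (x * y * x) * z * (x * y * x)⁻¹ ∈ Rm)) ∧
      (∀ γ ∈ Γ, ∃ g ∈ autInducedBy ⊤ (PQ K) ⊔ Rm, NormAut (⊤ : Subgroup (PG K)) (g⁻¹ * γ)) ∧
      (∀ v : PQ K, (v : PG K) ∈ PY K → (∀ y ∈ Rm, ((y v : PQ K) : PG K) * (v : PG K)⁻¹ ∈ PZ K) → (v : PG K) ∈ PZ K) := by
  classical
  have hpf : Fact p.Prime := ⟨h.pp⟩
  have hfinA : Finite (A2 K) := by
    have := h.fin
    exact Finite.of_injective (fun g : A2 K => (g : K × K → K × K)) DFunLike.coe_injective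
  have hchar := h.char
  have hn2 : 2 ≤ n := by
    by_contra hno
    have : n = 1 := by have := h.hn; omega
    rw [this, hp2] at hq
    norm_num at hq
  -- the restriction of `D`
  have hDQ : ∀ d ∈ D, ∀ x : PG K, x ∈ PQ K → d x ∈ PQ K := by
    intro d hd x hx
    obtain ⟨s, l, τ, hd'⟩ := (hG h).2.2.2.1 d (hp.D_le hd)
    show (d x).c = 0
    have hx' : x.c = 0 := hx
    rw [hd'.c, hx', map_zero, mul_zero]
  obtain ⟨ρ, hρ⟩ : ∃ ρ, ρ = res D (PQ K) hDQ := ⟨_, rfl⟩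
  have hρR : ∀ d : ↥D, IsRP d.1 (ρ d) := fun d => by rw [hρ]; exact isRP_res hDQ d
  have hρΓ : ∀ d : ↥D, ρ d ∈ Γ := fun d => hp.D_res d.1 d.2 _ (hρR d)
  let H : Subgroup (A2 K) := ((pi h).comp ρ).range
  have hHG : H ≤ Γ.map (pi h) := by
    rintro _ ⟨d, rfl⟩
    exact ⟨ρ d, hρΓ d, rfl⟩
  have hHn : ∀ g ∈ H, ∀ x ∈ TG K, g * x * g⁻¹ ∈ TG K := by
    rintro _ ⟨d, rfl⟩ x hx
    obtain ⟨x', hx', rfl⟩ := exists_of_mem_TG h hx
    show pi h (ρ d) * pi h x' * (pi h (ρ d))⁻¹ ∈ TG K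
    rw [← map_inv, ← map_mul, ← map_mul]
    apply pi_mem_TG h
    obtain ⟨y, -, hy⟩ := (mem_autInducedBy_iff _ _ _).1 hx'
    refine (mem_autInducedBy_iff _ _ _).2 ⟨d.1 y, Subgroup.mem_top _, fun e => ?_⟩
    have h1 : (ρ d * x' * (ρ d)⁻¹) e = ρ d (x' ((ρ d)⁻¹ e)) := rfl
    rw [h1, hρR, hy, map_mul, map_mul, map_inv]
    have h2 : d.1 (((ρ d)⁻¹ e : PQ K) : PG K) = (e : PG K) := by
      rw [← hρR]
      exact congrArg Subtype.val (MulEquiv.apply_symm_apply (ρ d) e)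
    rw [h2]
  have hHc : (Nat.card H).Coprime p := Nat.Coprime.coprime_dvd_left (Subgroup.card_range_dvd _) hp.D_cop
  have hTGp : IsPGroup p (TG K) := IsPGroup.of_card (card_TG h)
  obtain ⟨Pm, hPmG, hPmp, hPmP, hPmH, hswap, hcos, -⟩ := exists_opp hRk (m := n) (TG_le h hp) hTGp (TG_max h hp) (TG_ti h hp)
    (TG_nn h hp) hn2 (card_TG h) comm_TG (exp_TG h) (fun h2 => absurd hp2 h2) hHG hHn hHc
  obtain ⟨Rm, hRm⟩ : ∃ Rm, Rm = Γ ⊓ Pm.comap (pi h) := ⟨_, rfl⟩
  have hRmem : ∀ z, z ∈ Rm ↔ z ∈ Γ ∧ pi h z ∈ Pm := fun z => by rw [hRm]; exact Iff.rfl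
  have hRlift : ∀ y ∈ Pm, ∃ z ∈ Rm, pi h z = y := by
    intro y hy
    obtain ⟨z, hz, rfl⟩ := hPmG hy
    exact ⟨z, (hRmem z).2 ⟨hz, hy⟩, rfl⟩
  have hAΓ : ∀ {z : MulAut (PQ K)}, z ∈ autInducedBy ⊤ (PQ K) → z ∈ Γ := fun hz => hp.indu hz
  -- the swaps
  have hsw : ∀ x ∈ autInducedBy ⊤ (PQ K), x ∉ Inn (PQ K) → ∃ y ∈ Rm,
        (∀ z, z ∈ Rm ↔ (x * y * x) * z * (x * y * x)⁻¹ ∈ autInducedBy ⊤ (PQ K)) ∧
        (∀ z, z ∈ autInducedBy ⊤ (PQ K) ↔ (x * y * x) * z * (x * y * x)⁻¹ ∈ Rm) := by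
    intro x hx hxI
    obtain ⟨y', hy', e1, e2⟩ := hswap (pi h x) (pi_mem_TG h hx) (fun h1 => hxI (mem_inn h hx h1))
    obtain ⟨y, hy, rfl⟩ := hRlift y' hy'
    have hyΓ := ((hRmem y).1 hy).1
    have hs : x * y * x ∈ Γ := mul_mem (mul_mem (hAΓ hx) hyΓ) (hAΓ hx)
    have hπ : ∀ z, pi h ((x * y * x) * z * (x * y * x)⁻¹) =
        (pi h x * pi h y * pi h x) * pi h z * (pi h x * pi h y * pi h x)⁻¹ := by
      intro z
      rw [map_mul, map_mul, map_inv, map_mul, map_mul]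
    have hΓc : ∀ z, (x * y * x) * z * (x * y * x)⁻¹ ∈ Γ → z ∈ Γ := by
      intro z hz
      have h1 := mul_mem (mul_mem (inv_mem hs) hz) hs
      have h2 : (x * y * x)⁻¹ * ((x * y * x) * z * (x * y * x)⁻¹) * (x * y * x) = z := by group
      rwa [h2] at h1
    refine ⟨y, hy, fun z => ⟨fun hz => ?_, fun hz => ?_⟩, fun z => ⟨fun hz => ?_, fun hz => ?_⟩⟩
    · obtain ⟨h1, h2⟩ := (hRmem z).1 hz
      rw [← mem_aut_iff h hp (mul_mem (mul_mem hs h1) (inv_mem hs)), hπ]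
      exact (e1 _).1 h2
    · have h1 := pi_mem_TG h hz
      rw [hπ] at h1
      exact (hRmem z).2 ⟨hΓc z (hAΓ hz), (e1 _).2 h1⟩
    · refine (hRmem _).2 ⟨mul_mem (mul_mem hs (hAΓ hz)) (inv_mem hs), ?_⟩
      rw [hπ]
      exact (e2 _).1 (pi_mem_TG h hz)
    · obtain ⟨h1, h2⟩ := (hRmem _).1 hz
      rw [hπ] at h2
      rw [← mem_aut_iff h hp (hΓc z h1)]
      exact (e2 _).2 h2
  refine ⟨Rm, fun z hz => ((hRmem z).1 hz).1, ?_, ?_, hsw, ?_, ?_⟩
  · -- inner automorphisms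
    intro z hz
    refine (hRmem z).2 ⟨?_, ?_⟩
    · obtain ⟨x, rfl⟩ := hz
      exact hAΓ ((mem_autInducedBy_iff _ _ _).2 ⟨(x : PG K), Subgroup.mem_top _, fun e => rfl⟩)
    · rw [pi_inn h hz]
      exact one_mem _
  · -- `D`-invariance
    intro d hd δ hδ y hy
    obtain ⟨h1, h2⟩ := (hRmem y).1 hy
    have hδ' : δ = ρ ⟨d, hd⟩ := isRP_unique hδ (hρR ⟨d, hd⟩)
    have h3 : δ ∈ Γ := hp.D_res d hd δ hδ
    refine (hRmem _).2 ⟨mul_mem (mul_mem h3 h1) (inv_mem h3), ?_⟩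
    rw [map_mul, map_mul, map_inv]
    exact hPmH _ ⟨⟨d, hd⟩, by rw [hδ']; rfl⟩ _ h2
  · -- cosets
    intro γ hγ
    obtain ⟨w, hw, hwn⟩ := hcos (pi h γ) ⟨γ, hγ, rfl⟩
    have hmap : TG K ⊔ Pm ≤ (autInducedBy ⊤ (PQ K) ⊔ Rm).map (pi h) := by
      rw [Subgroup.map_sup]
      refine sup_le_sup ?_ ?_
      · intro x hx
        obtain ⟨x', hx', rfl⟩ := exists_of_mem_TG h hx
        exact ⟨x', hx', rfl⟩
      · intro y hy
        obtain ⟨z, hz, rfl⟩ := hRlift y hy
        exact ⟨z, hz, rfl⟩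
    obtain ⟨g, hg, rfl⟩ := hmap hw
    have hgΓ : g ∈ Γ := (sup_le (fun x hx => hAΓ hx) (fun z hz => ((hRmem z).1 hz).1) :
      autInducedBy ⊤ (PQ K) ⊔ Rm ≤ Γ) hg
    refine ⟨g, hg, fun x hx => ?_⟩
    have h1 := hwn _ (pi_mem_TG h hx)
    rw [← map_inv, ← map_mul, ← map_inv, ← map_mul, ← map_mul] at h1
    have h2 : g⁻¹ * γ ∈ Γ := mul_mem (inv_mem hgΓ) hγ
    exact (mem_aut_iff h hp (mul_mem (mul_mem h2 (hAΓ hx)) (inv_mem h2))).1 h1
  · -- no fixed points
    intro v hvY hv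
    have hvr : (v : PG K).r = 0 := hvY.1
    have hvc : (v : PG K).c = 0 := hvY.2
    refine ⟨hvr, ?_, hvc⟩
    by_contra hb
    -- the additive group of the fixed points
    let B : AddSubgroup K :=
      { carrier := {b | ∀ y ∈ Pm, y (b, 0) = (b, 0)}
        zero_mem' := fun y _ => map_zero y
        add_mem' := by
          intro a b ha hb y hy
          have h1 : ((a + b, 0) : K × K) = (a, 0) + (b, 0) := by rw [Prod.mk_add_mk, add_zero]
          rw [h1, map_add, ha y hy, hb y hy]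
        neg_mem' := by
          intro a ha y hy
          have h1 : ((-a, 0) : K × K) = -(a, 0) := by rw [Prod.neg_mk, neg_zero]
          rw [h1, map_neg, ha y hy] }
    have hBmem : ∀ b, b ∈ B ↔ ∀ y ∈ Pm, y (b, 0) = (b, 0) := fun b => Iff.rfl
    have hvB : (v : PG K).b ∈ B := by
      rw [hBmem]
      intro y hy
      obtain ⟨z, hz, rfl⟩ := hRlift y hy
      have h1 := hv z hz
      have h2 : uu (v : PG K) = ((v : PG K).b, 0) := by rw [← hvr]; rfl
      rw [← h2, pi_uu]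
      have h3 : ((z v : PQ K) : PG K) * (v : PG K)⁻¹ = ((z v * v⁻¹ : PQ K) : PG K) := rfl
      rw [h3] at h1
      have h4 : uu ((z v * v⁻¹ : PQ K) : PG K) = 0 := Prod.ext h1.2.1 h1.1
      rw [uu_mul, uu_inv, add_neg_eq_zero] at h4
      exact h4
    obtain ⟨ω, hωn, hωp, hω⟩ := exists_norm_gen h
    have hω0 : ω ≠ 0 := by
      rintro rfl
      rw [zero_mul] at hωn
      exact zero_ne_one hωn
    -- squares of `ω`
    have hsq : ∀ b ∈ B, ω ^ 2 * b ∈ B := by
      intro b hb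
      obtain ⟨α, hα⟩ := (hG h).2.2.1 (ω ^ 2) 1 (RingEquiv.refl K) (pow_ne_zero _ hω0) one_ne_zero (star_one K)
      have hαD : α ∈ D := hT ω hω0 α (by
        show IsTorP α (ω ^ 2) (ω * star ω)⁻¹ (RingEquiv.refl K)
        rw [hωn, inv_one]
        exact hα)
      rw [hBmem] at hb ⊢
      intro y hy
      have h1 : pi h (ρ ⟨α, hαD⟩) (b, 0) = (ω ^ 2 * b, 0) := by
        rw [pi_tor h hα (hρR ⟨α, hαD⟩)]
        show (ω ^ 2 * 1 * b, ω ^ 2 * 0) = (ω ^ 2 * b, 0)
        rw [mul_one, mul_zero]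
      have hg : pi h (ρ ⟨α, hαD⟩) ∈ H := ⟨⟨α, hαD⟩, rfl⟩
      have h2 := hPmH _ (inv_mem hg) y hy
      rw [inv_inv] at h2
      have h3 := hb _ h2
      have h4 : (pi h (ρ ⟨α, hαD⟩)) (((pi h (ρ ⟨α, hαD⟩))⁻¹ * y * pi h (ρ ⟨α, hαD⟩)) (b, 0)) =
          y (pi h (ρ ⟨α, hαD⟩) (b, 0)) := by
        show (pi h (ρ ⟨α, hαD⟩)) ((pi h (ρ ⟨α, hαD⟩))⁻¹ (y (pi h (ρ ⟨α, hαD⟩) (b, 0)))) = _
        exact LinearEquiv.apply_symm_apply _ _
      rw [← h1, ← h4, h3]
    have hmul : ∀ b ∈ B, ω * b ∈ B := by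
      have hpow : ∀ k : ℕ, ∀ b ∈ B, (ω ^ 2) ^ k * b ∈ B := by
        intro k
        induction k with
        | zero => intro b hb; rw [pow_zero, one_mul]; exact hb
        | succ k ih => intro b hb; rw [pow_succ, mul_assoc]; exact ih _ (hsq b hb)
      intro b hb
      obtain ⟨j, hj⟩ : 2 ∣ p ^ n := by rw [hp2]; exact dvd_pow_self 2 (by omega)
      have h1 : (ω ^ 2) ^ (j + 1) = ω := by
        rw [← pow_mul]
        have h2 : 2 * (j + 1) = (p ^ n + 1) + 1 := by omega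
        rw [h2, pow_succ, hωp, one_mul]
      have h2 := hpow (j + 1) b hb
      rwa [h1] at h2
    have hall := eq_top_of_norm h B hvB hb hω0 hω hmul
    -- all elements of `Rm` act trivially on `Z`
    obtain ⟨x0, hx0A, hx0I⟩ : ∃ x ∈ autInducedBy ⊤ (PQ K), x ∉ Inn (PQ K) := by
      by_contra hno
      push Not at hno
      obtain ⟨g, hg, t, ht, hgt⟩ := TG_nn h hp
      obtain ⟨t', ht', rfl⟩ := exists_of_mem_TG h ht
      apply hgt
      rw [pi_inn h (hno t' ht'), mul_one, mul_inv_cancel]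
      exact one_mem _
    obtain ⟨y0, hy0, e1, e2⟩ := hsw x0 hx0A hx0I
    have hZ : ∀ γ ∈ Rm, ∀ z : PQ K, uu (z : PG K) = 0 → γ z = z := by
      intro γ hγ z hz
      have h1 := (e1 γ).1 hγ
      obtain ⟨s, hs⟩ : ∃ s, s = x0 * y0 * x0 := ⟨_, rfl⟩
      rw [← hs] at h1
      obtain ⟨x, -, hx⟩ := (mem_autInducedBy_iff _ _ _).1 h1
      have h2 : (s * γ * s⁻¹) (s z) = s z := by
        apply Subtype.ext
        rw [hx]
        have h3 := aut_Z h s hz
        have h4 : ((s z : PQ K) : PG K).b = 0 := congrArg Prod.fst h3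
        have h5 : ((s z : PQ K) : PG K).r = 0 := congrArg Prod.snd h3
        have h6 := c_Q (s z)
        rw [mul_inv_eq_iff_eq_mul]
        apply PG.ext
        · rw [PG.mul_r, PG.mul_r, h5]; ring
        · rw [PG.mul_a, PG.mul_a, h4, h5, h6, star_zero]; ring
        · rw [PG.mul_b, PG.mul_b, h4, h5, h6]; ring
        · rw [PG.mul_c, PG.mul_c, h6]; ring
      have h3 : (s * γ * s⁻¹) (s z) = s (γ z) := by
        show s (γ (s⁻¹ (s z))) = s (γ z)
        have : s⁻¹ (s z) = z := MulEquiv.symm_apply_apply s z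
        rw [this]
      rw [h3] at h2
      exact s.injective h2
    -- and on `Q / Y`
    have hQY : ∀ y ∈ Pm, ∀ u : K × K, (y u).2 = u.2 := by
      intro y hy u
      obtain ⟨γ, hγ, rfl⟩ := hRlift y hy
      have h1 : ∀ b : K, uu ((γ (eQ (b, 0)) : PQ K) : PG K) = (b, 0) := by
        intro b
        rw [← pi_uu h]
        exact (hBmem b).1 (hall b) _ hy
      have h2 : (pi h γ u) = uu ((γ (eQ u) : PQ K) : PG K) := rfl
      have h3 : (((γ (eQ u) : PQ K) : PG K).r - u.2) = 0 := by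
        apply tr_nondeg h
        intro b
        obtain ⟨k0, ka⟩ := comm_eq (eQ u) (eQ (b, 0))
        obtain ⟨l0, la⟩ := comm_eq (γ (eQ u)) (γ (eQ (b, 0)))
        have h4 := hZ γ hγ _ k0
        rw [map_mul, map_mul, map_mul, map_inv, map_inv] at h4
        rw [h4, ka] at la
        have h5 : ((γ (eQ (b, 0)) : PQ K) : PG K).b = b := congrArg Prod.fst (h1 b)
        have h6 : ((γ (eQ (b, 0)) : PQ K) : PG K).r = 0 := congrArg Prod.snd (h1 b)
        rw [h5, h6] at la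
        have h7 : u.2 * star b + star u.2 * b =
            ((γ (eQ u) : PQ K) : PG K).r * star b + star ((γ (eQ u) : PQ K) : PG K).r * b := by
          have la' : u.2 * star b + star u.2 * b - (0 * star u.1 + star 0 * u.1) =
            ((γ (eQ u) : PQ K) : PG K).r * star b + star ((γ (eQ u) : PQ K) : PG K).r * b -
              (0 * star ((γ (eQ u) : PQ K) : PG K).b + star 0 * ((γ (eQ u) : PQ K) : PG K).b) := la
          rw [star_zero] at la'
          linear_combination la'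
        rw [star_sub]
        linear_combination -h7
      rw [h2]
      exact sub_eq_zero.1 h3
    -- so they generate a `p`-group with `TG K`
    obtain ⟨U1, hU⟩ : ∃ U1 : Subgroup (A2 K), ∀ g, g ∈ U1 ↔ g ∈ Γ.map (pi h) ∧ (∀ u : K × K, (g u).2 = u.2) ∧
        ∀ b : K, g (b, 0) = (b, 0) := by
      refine ⟨{ carrier := {g | g ∈ Γ.map (pi h) ∧ (∀ u : K × K, (g u).2 = u.2) ∧ ∀ b : K, g (b, 0) = (b, 0)},
                one_mem' := ⟨one_mem _, fun _ => rfl, fun _ => rfl⟩,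
                mul_mem' := ?_, inv_mem' := ?_ }, fun g => Iff.rfl⟩
      · rintro a b ⟨ha, ha2, ha0⟩ ⟨hb, hb2, hb0⟩
        refine ⟨mul_mem ha hb, fun u => ?_, fun x => ?_⟩
        · rw [LinearEquiv.mul_apply, ha2, hb2]
        · rw [LinearEquiv.mul_apply, hb0, ha0]
      · rintro a ⟨ha, ha2, ha0⟩
        have ai : ∀ u, a (a⁻¹ u) = u := fun u => LinearEquiv.apply_symm_apply a u
        refine ⟨inv_mem ha, fun u => ?_, fun x => ?_⟩
        · have := ha2 (a⁻¹ u)
          rw [ai] at this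
          exact this.symm
        · apply a.injective
          rw [ai, ha0]
    have hUp : IsPGroup p U1 := by
      rintro ⟨g, hg⟩
      obtain ⟨-, h2, h0⟩ := (hU g).1 hg
      refine ⟨1, ?_⟩
      apply Subtype.ext
      show g ^ p ^ 1 = 1
      rw [pow_one]
      have key : ∀ (k : ℕ) (u : K × K), (g ^ k) u = u + k • (g u - u) := by
        intro k
        induction k with
        | zero => intro u; rw [pow_zero, zero_smul, add_zero]; rfl
        | succ k ih =>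
          intro u
          have h3 : (g u - u).2 = 0 := by rw [Prod.snd_sub, h2, sub_self]
          have h4 : g (k • (g u - u)) = k • (g u - u) := by
            have h5 : k • (g u - u) = ((k • (g u - u)).1, 0) := by
              ext
              · rfl
              · rw [Prod.smul_snd, h3, smul_zero]
            rw [h5, h0]
          rw [pow_succ', LinearEquiv.mul_apply, ih, map_add, h4, add_smul, one_smul]
          abel
      apply LinearEquiv.ext
      intro u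
      rw [key]
      have h6 : p • (g u - u) = 0 := by
        ext
        · rw [Prod.smul_fst, nsmul_eq_mul, CharP.cast_eq_zero, zero_mul]; rfl
        · rw [Prod.smul_snd, nsmul_eq_mul, CharP.cast_eq_zero, zero_mul]; rfl
      rw [h6, add_zero]
      rfl
    have hTU : TG K ≤ U1 := by
      intro g hg
      have hg' := hg
      obtain ⟨c, -, rfl⟩ := hg
      exact (hU _).2 ⟨TG_le h hp hg', fun u => rfl, fun b => by rw [tau_apply, mul_zero, add_zero]⟩
    have hmax := TG_max h hp U1 (fun g hg => ((hU g).1 hg).1) hUp hTU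
    exact hPmP fun y hy => hmax ((hU y).2 ⟨hPmG hy, hQY y hy, fun b => (hBmem b).1 (hall b) y hy⟩)


end Cfsg.Agent.H994.P4
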