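import Cfsg.Agent.Solvable.SZ
import Cfsg.Agent.H776.P4.Stmts

/-!
# S5210: the opposite Sylow subgroup invariant under a `p'`-group (helper994)

* `exists_opp` : `P` a TI, non-normal, elementary abelian Sylow `p`-subgroup of `G ≤ A`, `H ≤ G` a `p'`-group which normalizes `P`:
  there is another Sylow subgroup `P'` of `G`, normalized by `H`, with the swaps of `StRk`.
-/

set_option autoImplicit false

namespace Cfsg.Agent.H994.P4

open Cfsg Cfsg.Agent.H776.P4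
open scoped Pointwise

universe u

/-- Schur-Zassenhaus inside a subgroup -/
theorem sz_in {G : Type u} [Group G] [Finite G] (R D T : Subgroup G) [R.Normal] (hs : Group.IsSolvable R)
    (hcop : (Nat.card D).Coprime (Nat.card R)) (hRT : R ⊓ T = ⊥)
    (hall : ∀ x : G, ∃ t ∈ T, x * t⁻¹ ∈ R) : ∃ g : G, ∀ d ∈ D, g * d * g⁻¹ ∈ T := by
  let L : Subgroup G := D ⊔ R
  have hDL : D ≤ L := le_sup_left
  have hRL : R ≤ L := le_sup_right
  let N : Subgroup L := R.subgroupOf L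
  have hN : N.Normal := inferInstance
  let H : Subgroup L := D.subgroupOf L
  let T' : Subgroup L := T.subgroupOf L
  have cN : Nat.card N = Nat.card R := Nat.card_congr (Subgroup.subgroupOfEquivOfLe hRL).toEquiv
  have cH : Nat.card H = Nat.card D := Nat.card_congr (Subgroup.subgroupOfEquivOfLe hDL).toEquiv
  have hDR : D ⊓ R = ⊥ := (Subgroup.disjoint_of_coprime_natCard hcop).eq_bot
  have hNH : N.IsComplement' H := by
    refine Subgroup.isComplement'_of_disjoint_and_mul_eq_univ ?_ ?_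
    · rw [disjoint_iff, eq_bot_iff]
      rintro ⟨x, hx⟩ ⟨h1, h2⟩
      have h3 : x ∈ D ⊓ R := ⟨h2, h1⟩
      rw [hDR] at h3
      exact Subgroup.mem_bot.2 (Subtype.ext h3)
    · rw [Set.eq_univ_iff_forall]
      rintro ⟨x, hx⟩
      have hx' : x ∈ ((R ⊔ D : Subgroup G) : Set G) := by
        rw [sup_comm]
        exact hx
      rw [Subgroup.normal_mul] at hx'
      obtain ⟨r, hr, d, hd, rfl⟩ := Set.mem_mul.1 hx'
      exact Set.mem_mul.2 ⟨⟨r, hRL hr⟩, hr, ⟨d, hDL hd⟩, hd, rfl⟩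
  have hNT : N.IsComplement' T' := by
    refine Subgroup.isComplement'_of_disjoint_and_mul_eq_univ ?_ ?_
    · rw [disjoint_iff, eq_bot_iff]
      rintro ⟨x, hx⟩ ⟨h1, h2⟩
      have h3 : x ∈ R ⊓ T := ⟨h1, h2⟩
      rw [hRT] at h3
      exact Subgroup.mem_bot.2 (Subtype.ext h3)
    · rw [Set.eq_univ_iff_forall]
      rintro ⟨x, hx⟩
      obtain ⟨t, ht, hxt⟩ := hall x
      have htL : t ∈ L := by
        have : (x * t⁻¹)⁻¹ * x ∈ L := L.mul_mem (L.inv_mem (hRL hxt)) hx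
        simpa using this
      refine Set.mem_mul.2 ⟨⟨x * t⁻¹, hRL hxt⟩, hxt, ⟨t, htL⟩, ht, ?_⟩
      exact Subtype.ext (inv_mul_cancel_right x t)
  have iH : Nat.card H = N.index := hNH.symm.index_eq_card.symm
  have iT : Nat.card T' = N.index := hNT.symm.index_eq_card.symm
  have hcop' : (Nat.card N).Coprime N.index := by
    rw [cN, ← iH, cH]
    exact hcop.symm
  have hsN : Group.IsSolvable N :=
    Group.isSolvable_of_isSolvable_injective (f := (Subgroup.subgroupOfEquivOfLe hRL).toMonoidHom)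
      (Subgroup.subgroupOfEquivOfLe hRL).injective
  obtain ⟨g, hg⟩ := Cfsg.Agent.Solvable.SZ.main (Nat.card L) L rfl N hcop' H T' (Or.inl hsN) iH iT
  refine ⟨g, fun d hd => ?_⟩
  have h1 : MulAut.conj g • (⟨d, hDL hd⟩ : L) ∈ MulAut.conj g • H :=
    Subgroup.smul_mem_pointwise_smul _ _ _ hd
  rw [hg] at h1
  exact h1

/-- in a finite group `g P g⁻¹ ≤ P` gives `g ∈ N(P)` -/
theorem mem_norm {G : Type u} [Group G] [Finite G] {P : Subgroup G} {g : G} (h : ∀ x ∈ P, g * x * g⁻¹ ∈ P) :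
    g ∈ Subgroup.normalizer (P : Set G) :=
  Subgroup.mem_normalizer_fintype (S := (P : Set G)) h

/-- the conjugate as an image -/
theorem mem_map_conj {G : Type u} [Group G] {P : Subgroup G} {g x : G} :
    x ∈ P.map (MulAut.conj g).toMonoidHom ↔ g⁻¹ * x * g ∈ P := by
  rw [Subgroup.mem_map]
  constructor
  · rintro ⟨y, hy, rfl⟩
    show g⁻¹ * (g * y * g⁻¹) * g ∈ P
    have : g⁻¹ * (g * y * g⁻¹) * g = y := by group
    rwa [this]
  · intro h
    refine ⟨_, h, ?_⟩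
    show g * (g⁻¹ * x * g) * g⁻¹ = x
    group

theorem mem_smul {G : Type u} [Group G] {p : ℕ} {P : Sylow p G} {g x : G} :
    x ∈ ((g • P : Sylow p G) : Subgroup G) ↔ g⁻¹ * x * g ∈ (P : Subgroup G) := by
  rw [Sylow.coe_subgroup_smul, Subgroup.mem_pointwise_smul_iff_inv_smul_mem]
  have : ((MulAut.conj g)⁻¹ • x : G) = g⁻¹ * x * g := by
    show (MulAut.conj g)⁻¹ x = _
    rw [← map_inv, MulAut.conj_apply, inv_inv]
  rw [this]

/-- **The opposite Sylow subgroup, invariant under a `p'`-group.** -/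
theorem exists_opp (hRk : StRk.{u}) {A : Type u} [Group A] [Finite A] {p m : ℕ} [hp : Fact p.Prime] {G P H : Subgroup A}
    (hPG : P ≤ G) (hP : IsPGroup p P) (hmax : ∀ Q : Subgroup A, Q ≤ G → IsPGroup p Q → P ≤ Q → Q ≤ P)
    (hti : ∀ g ∈ G, ∀ x ∈ P, x ≠ 1 → g * x * g⁻¹ ∈ P → ∀ y ∈ P, g * y * g⁻¹ ∈ P)
    (hnn : ∃ g ∈ G, ∃ x ∈ P, g * x * g⁻¹ ∉ P) (hm : 2 ≤ m) (hcard : Nat.card P = p ^ m)
    (hab : ∀ x ∈ P, ∀ y ∈ P, x * y = y * x) (hexp : ∀ x ∈ P, x ^ p = 1)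
    (hb : p ≠ 2 → Nat.card G ∣ Nat.card (GL (Fin (2 * m)) (ZMod p)))
    (hHG : H ≤ G) (hHn : ∀ h ∈ H, ∀ x ∈ P, h * x * h⁻¹ ∈ P) (hHc : (Nat.card H).Coprime p) :
    ∃ P' : Subgroup A, P' ≤ G ∧ IsPGroup p P' ∧ ¬ P' ≤ P ∧ (∀ h ∈ H, ∀ y ∈ P', h * y * h⁻¹ ∈ P') ∧
      (∀ x ∈ P, x ≠ 1 → ∃ y ∈ P', (∀ z, z ∈ P' ↔ (x * y * x) * z * (x * y * x)⁻¹ ∈ P) ∧
        (∀ z, z ∈ P ↔ (x * y * x) * z * (x * y * x)⁻¹ ∈ P')) ∧
      (∀ g ∈ G, ∃ w ∈ P ⊔ P', ∀ x ∈ P, (w⁻¹ * g) * x * (w⁻¹ * g)⁻¹ ∈ P) ∧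
      (∃ h ∈ G, (∀ x ∈ P, h * x * h⁻¹ ∈ P) ∧ (∀ x ∈ P', h * x * h⁻¹ ∈ P') ∧
        ∀ j : ℕ, 0 < j → j * (if p = 2 then 1 else 2) < p ^ m - 1 → ∀ x ∈ P, h ^ j * x = x * h ^ j → x = 1) := by
  classical
  have hPs : IsPGroup p ↥(P.subgroupOf G) := by
    rintro ⟨⟨x, hx⟩, hx'⟩
    obtain ⟨k, hk⟩ := hP ⟨x, hx'⟩
    have h1 : x ^ p ^ k = 1 := congrArg Subtype.val hk
    refine ⟨k, Subtype.ext (Subtype.ext ?_)⟩
    exact h1
  let S : Sylow p ↥G :=
    { toSubgroup := P.subgroupOf G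
      isPGroup' := hPs
      is_maximal' := by
        intro Q hQ hle
        refine le_antisymm ?_ hle
        have h1 : IsPGroup p ↥(Q.map G.subtype) := hQ.map _
        have h2 : Q.map G.subtype ≤ G := by
          rintro _ ⟨x, -, rfl⟩
          exact x.2
        have h3 : P ≤ Q.map G.subtype := fun x hx => ⟨⟨x, hPG hx⟩, hle hx, rfl⟩
        intro x hx
        exact hmax _ h2 h1 h3 ⟨x, hx, rfl⟩ }
  have hS : ∀ x : ↥G, x ∈ (S : Subgroup ↥G) ↔ (x : A) ∈ P := fun x => Iff.rfl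
  -- TI
  have hTI : ∀ g : ↥G, g ∉ Subgroup.normalizer ((S : Subgroup ↥G) : Set ↥G) → ∀ x ∈ (S : Subgroup ↥G),
      g * x * g⁻¹ ∈ (S : Subgroup ↥G) → x = 1 := by
    intro g hg x hx hgx
    by_contra h1
    apply hg
    refine mem_norm fun y hy => ?_
    rw [hS] at hy hgx hx ⊢
    exact hti g g.2 x hx (fun h => h1 (Subtype.ext h)) hgx y hy
  obtain ⟨g0, hg0, x0, hx0, hgx0⟩ := hnn
  have hnor : ¬ (S : Subgroup ↥G).Normal := by
    intro hN
    exact hgx0 (hN.conj_mem ⟨x0, hPG hx0⟩ hx0 ⟨g0, hg0⟩)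
  have hcS : Nat.card S = p ^ m := by
    rw [← hcard]
    exact Nat.card_congr (Subgroup.subgroupOfEquivOfLe hPG).toEquiv
  obtain ⟨k1, k2, k3⟩ := hRk S hm hTI hnor hcS
    (fun x hx y hy => Subtype.ext (hab x hx y hy)) (fun x hx => Subtype.ext (hexp x hx)) hb
  -- another Sylow subgroup
  have hne0 : ((⟨g0, hg0⟩ : ↥G)⁻¹ • S : Sylow p ↥G) ≠ S := by
    intro h
    apply hgx0
    have h1 : (⟨x0, hPG hx0⟩ : ↥G) ∈ (((⟨g0, hg0⟩ : ↥G)⁻¹ • S : Sylow p ↥G) : Subgroup ↥G) := by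
      rw [h]; exact hx0
    rw [mem_smul, inv_inv] at h1
    exact h1
  obtain ⟨P1, hP1⟩ : ∃ P1 : Sylow p ↥G, P1 ≠ S := ⟨_, hne0⟩
  -- distinct Sylow subgroups intersect trivially
  have htriv : ∀ P2 : Sylow p ↥G, P2 ≠ S → ∀ x ∈ (S : Subgroup ↥G), x ∈ (P2 : Subgroup ↥G) → x = 1 := by
    intro P2 hP2 x hxS hx2
    obtain ⟨g, rfl⟩ := MulAction.exists_smul_eq ↥G S P2
    rw [mem_smul] at hx2
    have h1 : g ∉ Subgroup.normalizer ((S : Subgroup ↥G) : Set ↥G) := by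
      intro h
      exact hP2 (Sylow.smul_eq_iff_mem_normalizer.2 h)
    have h2 := hTI g h1 _ hx2 (by
      have : g * (g⁻¹ * x * g) * g⁻¹ = x := by group
      rwa [this])
    have h3 : x = g * (g⁻¹ * x * g) * g⁻¹ := by group
    rw [h3, h2]; group
  -- Schur-Zassenhaus
  let N : Subgroup ↥G := Subgroup.normalizer ((S : Subgroup ↥G) : Set ↥G)
  have hSN : (S : Subgroup ↥G) ≤ N := Subgroup.le_normalizer
  let R : Subgroup ↥N := (S : Subgroup ↥G).subgroupOf N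
  have hRn : R.Normal := Subgroup.normal_in_normalizer
  let T : Subgroup ↥N := (Subgroup.normalizer ((P1 : Subgroup ↥G) : Set ↥G)).subgroupOf N
  let D : Subgroup ↥N := (H.subgroupOf G).subgroupOf N
  have hRab : ∀ x ∈ R, ∀ y ∈ R, x * y = y * x := by
    intro x hx y hy
    exact Subtype.ext (Subtype.ext (hab _ hx _ hy))
  have hRc : IsMulCommutative ↥R := ⟨⟨fun a b => Subtype.ext (hRab a a.2 b b.2)⟩⟩
  have hRs : Group.IsSolvable ↥R := by
    let _ : CommGroup ↥R := { (inferInstance : Group ↥R) with mul_comm := fun a b => Subtype.ext (hRab a a.2 b b.2) }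
    infer_instance
  have hRcard : Nat.card R = p ^ m := by
    rw [← hcS]
    exact Nat.card_congr (Subgroup.subgroupOfEquivOfLe hSN).toEquiv
  have hDcard : (Nat.card D).Coprime p := by
    have h1 : Nat.card D ∣ Nat.card H := by
      let f : ↥D →* ↥H := { toFun := fun d => ⟨((d : ↥N) : ↥G), d.2⟩, map_one' := rfl, map_mul' := fun _ _ => rfl }
      have hf : Function.Injective f := by
        intro a b hab
        have h := congrArg Subtype.val hab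
        exact Subtype.ext (Subtype.ext (Subtype.ext h))
      exact Subgroup.card_dvd_of_injective f hf
    exact Nat.Coprime.coprime_dvd_left h1 hHc
  obtain ⟨g, hg⟩ := sz_in R D T hRs (by rw [hRcard]; exact Nat.Coprime.pow_right _ hDcard) (by
    rw [eq_bot_iff]
    rintro ⟨x, hx⟩ ⟨hxR, hxT⟩
    have hxS : x ∈ (S : Subgroup ↥G) := hxR
    have hxT' : x ∈ Subgroup.normalizer ((P1 : Subgroup ↥G) : Set ↥G) := hxT
    have h1 : x ∈ (P1 : Subgroup ↥G) := by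
      have h2 : (S : Subgroup ↥G) ⊓ Subgroup.normalizer ((P1 : Subgroup ↥G) : Set ↥G) = (S : Subgroup ↥G) ⊓ (P1 : Subgroup ↥G) :=
        S.2.inf_normalizer_sylow P1
      have h3 : x ∈ (S : Subgroup ↥G) ⊓ Subgroup.normalizer ((P1 : Subgroup ↥G) : Set ↥G) := ⟨hxS, hxT'⟩
      rw [h2] at h3
      exact h3.2
    exact Subgroup.mem_bot.2 (Subtype.ext (htriv P1 hP1 x hxS h1))) (by
    rintro ⟨x, hx⟩
    have hne : (x • P1 : Sylow p ↥G) ≠ S := by
      intro h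
      apply hP1
      have h1 : x • S = S := Sylow.smul_eq_iff_mem_normalizer.2 hx
      have h2 : x • P1 = x • S := by rw [h, h1]
      exact smul_left_cancel x h2
    obtain ⟨y, hy, hyP⟩ := k1 P1 (x • P1) hP1 hne
    have h1 : y⁻¹ * x ∈ Subgroup.normalizer ((P1 : Subgroup ↥G) : Set ↥G) := by
      refine mem_norm fun z hz => ?_
      have h2 : x * z * x⁻¹ ∈ ((x • P1 : Sylow p ↥G) : Subgroup ↥G) := by
        rw [mem_smul]
        have : x⁻¹ * (x * z * x⁻¹) * x = z := by group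
        rwa [this]
      rw [← hyP, mem_map_conj] at h2
      have : y⁻¹ * x * z * (y⁻¹ * x)⁻¹ = y⁻¹ * (x * z * x⁻¹) * y := by group
      rwa [this]
    refine ⟨⟨y⁻¹ * x, mul_mem (inv_mem (hSN hy)) hx⟩, h1, ?_⟩
    show x * (y⁻¹ * x)⁻¹ ∈ (S : Subgroup ↥G)
    have : x * (y⁻¹ * x)⁻¹ = y := by group
    rwa [this])
  -- the invariant Sylow subgroup
  obtain ⟨P2, hP2def⟩ : ∃ P2 : Sylow p ↥G, P2 = ((g : ↥G)⁻¹ • P1) := ⟨_, rfl⟩
  have hP2 : P2 ≠ S := by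
    intro h
    apply hP1
    rw [hP2def] at h
    have h1 : (g : ↥G) • S = S := Sylow.smul_eq_iff_mem_normalizer.2 g.2
    rw [← h1, ← h, smul_inv_smul]
  have hinv : ∀ h : ↥G, (h : A) ∈ H → ∀ y ∈ (P2 : Subgroup ↥G), h * y * h⁻¹ ∈ (P2 : Subgroup ↥G) := by
    intro h hh y hy
    have hhN : h ∈ N := mem_norm fun x hx => by
      rw [hS] at hx ⊢
      exact hHn _ hh _ hx
    have h1 := hg ⟨h, hhN⟩ hh
    have h2 : (g : ↥G) * h * (g : ↥G)⁻¹ ∈ Subgroup.normalizer ((P1 : Subgroup ↥G) : Set ↥G) := h1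
    rw [hP2def, mem_smul, inv_inv] at hy ⊢
    have h3 := (Subgroup.mem_normalizer_iff.1 h2 _).1 hy
    have h4 : (g : ↥G) * h * (g : ↥G)⁻¹ * ((g : ↥G) * y * (g : ↥G)⁻¹) * ((g : ↥G) * h * (g : ↥G)⁻¹)⁻¹ =
        (g : ↥G) * (h * y * h⁻¹) * (g : ↥G)⁻¹ := by group
    rwa [h4] at h3
  -- the answer
  have hmem : ∀ z : A, z ∈ (P2 : Subgroup ↥G).map G.subtype ↔ ∃ hz : z ∈ G, (⟨z, hz⟩ : ↥G) ∈ (P2 : Subgroup ↥G) := by
    intro z
    constructor
    · rintro ⟨y, hy, rfl⟩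
      exact ⟨y.2, hy⟩
    · rintro ⟨hz, h⟩
      exact ⟨⟨z, hz⟩, h, rfl⟩
  -- the swap
  have swap : ∀ s : ↥G, (S : Subgroup ↥G).map (MulAut.conj s).toMonoidHom = P2 →
      (P2 : Subgroup ↥G).map (MulAut.conj s).toMonoidHom = S →
      (∀ z, z ∈ (P2 : Subgroup ↥G).map G.subtype ↔ (s : A) * z * (s : A)⁻¹ ∈ P) ∧
        (∀ z, z ∈ P ↔ (s : A) * z * (s : A)⁻¹ ∈ (P2 : Subgroup ↥G).map G.subtype) := by
    intro s e1 e2
    constructor
    · intro z
      rw [hmem]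
      constructor
      · rintro ⟨hz, h⟩
        have h1 : s * ⟨z, hz⟩ * s⁻¹ ∈ (S : Subgroup ↥G) := by
          rw [← e2, mem_map_conj]
          have : s⁻¹ * (s * ⟨z, hz⟩ * s⁻¹) * s = ⟨z, hz⟩ := by group
          rwa [this]
        exact h1
      · intro h
        have hz : z ∈ G := by
          have h1 := mul_mem (mul_mem (inv_mem s.2) (hPG h)) s.2
          have : (s : A)⁻¹ * ((s : A) * z * (s : A)⁻¹) * (s : A) = z := by group
          rwa [this] at h1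
        refine ⟨hz, ?_⟩
        have h1 : s * ⟨z, hz⟩ * s⁻¹ ∈ (S : Subgroup ↥G) := h
        rw [← e2, mem_map_conj] at h1
        have : s⁻¹ * (s * ⟨z, hz⟩ * s⁻¹) * s = ⟨z, hz⟩ := by group
        rwa [this] at h1
    · intro z
      rw [hmem]
      constructor
      · intro h
        have hz : z ∈ G := hPG h
        refine ⟨mul_mem (mul_mem s.2 hz) (inv_mem s.2), ?_⟩
        have h1 : s * ⟨z, hz⟩ * s⁻¹ ∈ (P2 : Subgroup ↥G) := by
          rw [← e1, mem_map_conj]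
          have : s⁻¹ * (s * ⟨z, hz⟩ * s⁻¹) * s = ⟨z, hz⟩ := by group
          rw [this]
          exact h
        exact h1
      · rintro ⟨hz, h⟩
        have hz' : z ∈ G := by
          have h1 := mul_mem (mul_mem (inv_mem s.2) hz) s.2
          have : (s : A)⁻¹ * ((s : A) * z * (s : A)⁻¹) * (s : A) = z := by group
          rwa [this] at h1
        have h1 : s * ⟨z, hz'⟩ * s⁻¹ ∈ (P2 : Subgroup ↥G) := h
        rw [← e1, mem_map_conj] at h1
        have : s⁻¹ * (s * ⟨z, hz'⟩ * s⁻¹) * s = ⟨z, hz'⟩ := by group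
        rw [this] at h1
        exact h1
  refine ⟨(P2 : Subgroup ↥G).map G.subtype, ?_, P2.2.map _, ?_, ?_, ?_, ?_, ?_⟩
  · rintro _ ⟨x, -, rfl⟩
    exact x.2
  · intro hle
    apply hP2
    have h1 : (P2 : Subgroup ↥G) ≤ (S : Subgroup ↥G) := fun x hx => hle ⟨x, hx, rfl⟩
    exact Sylow.ext (P2.is_maximal' S.2 h1).symm
  · intro h hh y hy
    rw [hmem] at hy ⊢
    obtain ⟨hyG, hy⟩ := hy
    exact ⟨mul_mem (mul_mem (hHG hh) hyG) (inv_mem (hHG hh)), hinv ⟨h, hHG hh⟩ hh ⟨y, hyG⟩ hy⟩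
  · intro x hx hx1
    obtain ⟨y, hy, e1, e2⟩ := k2 P2 hP2 ⟨x, hPG hx⟩ hx (fun h => hx1 (congrArg Subtype.val h))
    exact ⟨y, ⟨y, hy, rfl⟩, swap _ e1 e2⟩
  · intro g hgG
    by_cases hgS : (⟨g, hgG⟩ : ↥G) • S = S
    · refine ⟨1, one_mem _, fun x hx => ?_⟩
      rw [inv_one, one_mul]
      have h1 := Sylow.smul_eq_iff_mem_normalizer.1 hgS
      exact (Subgroup.mem_normalizer_iff.1 h1 ⟨x, hPG hx⟩).1 hx
    · obtain ⟨y, hy, hyP⟩ := k1 P2 _ hP2 hgS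
      have hnt : ∃ x ∈ P, x ≠ 1 := by
        by_contra hno
        push Not at hno
        have h1 : P = ⊥ := (Subgroup.eq_bot_iff_forall _).2 hno
        rw [h1, Subgroup.card_bot] at hcard
        exact absurd hcard (Nat.one_lt_pow (by omega) hp.out.one_lt).ne
      obtain ⟨x1, hx1, hx1'⟩ := hnt
      obtain ⟨y1, hy1, e1, e2⟩ := k2 P2 hP2 ⟨x1, hPG hx1⟩ hx1 (fun h => hx1' (congrArg Subtype.val h))
      refine ⟨(y : A) * (x1 * y1 * x1), ?_, ?_⟩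
      · refine mul_mem ((le_sup_left : P ≤ _) hy) (mul_mem (mul_mem ((le_sup_left : P ≤ _) hx1)
          ((le_sup_right : (P2 : Subgroup ↥G).map G.subtype ≤ _) ⟨y1, hy1, rfl⟩)) ((le_sup_left : P ≤ _) hx1))
      · intro x hx
        have h1 : (⟨g, hgG⟩ : ↥G) * ⟨x, hPG hx⟩ * (⟨g, hgG⟩ : ↥G)⁻¹ ∈ (((⟨g, hgG⟩ : ↥G) • S : Sylow p ↥G) : Subgroup ↥G) := by
          rw [mem_smul]
          have : (⟨g, hgG⟩ : ↥G)⁻¹ * ((⟨g, hgG⟩ : ↥G) * ⟨x, hPG hx⟩ * (⟨g, hgG⟩ : ↥G)⁻¹) * ⟨g, hgG⟩ = ⟨x, hPG hx⟩ := by group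
          rw [this]
          exact hx
        rw [← hyP, mem_map_conj, ← e1, mem_map_conj] at h1
        have h2 : ((y : A) * (x1 * y1 * x1))⁻¹ * g * x * (((y : A) * (x1 * y1 * x1))⁻¹ * g)⁻¹ =
            (x1 * y1 * x1)⁻¹ * ((y : A)⁻¹ * (g * x * g⁻¹) * (y : A)) * (x1 * y1 * x1) := by group
        rw [h2]
        exact h1
  · obtain ⟨h, hh, hh', hj⟩ := k3 P2 hP2
    refine ⟨h, h.2, ?_, ?_, ?_⟩
    · intro x hx
      exact (Subgroup.mem_normalizer_iff.1 hh ⟨x, hPG hx⟩).1 hx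
    · intro x hx
      rw [hmem] at hx ⊢
      obtain ⟨hxG, hx⟩ := hx
      exact ⟨mul_mem (mul_mem h.2 hxG) (inv_mem h.2), (Subgroup.mem_normalizer_iff.1 hh' ⟨x, hxG⟩).1 hx⟩
    · intro j hj0 hjm x hx hxj
      have h1 := hj j hj0 hjm ⟨x, hPG hx⟩ hx (Subtype.ext (by
        show ((h ^ j : ↥G) : A) * x = x * ((h ^ j : ↥G) : A)
        rw [Subgroup.coe_pow]
        exact hxj))
      exact congrArg Subtype.val h1

end Cfsg.Agent.H994.P4
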